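import Cfsg.Agent.Lib.Orders.SameOrder.Search

/-!
# The three problems and their solutions
-/

set_option autoImplicit false

namespace CfsgLib.Orders.SameOrder

/-- The data for the alternating group of degree four. -/
def altFour : Problem :=
  ⟨[1, 3, 8], 3, [8], [(2, 4), (3, 1)], 16, 3, 1, 1,
  [3, 4, 6, 8, 12, 16, 24, 48]⟩

/-- The data for the alternating group of degree five. -/
def altFive : Problem :=
  ⟨[1, 15, 20, 24], 15, [20, 24], [(2, 4), (3, 2), (5, 2)], 16, 9, 25, 1,
  [3, 4, 5, 6, 8, 9, 10, 12, 15, 16, 18, 20, 24, 25, 30, 36, 40, 45, 48, 50, 60, 72, 75, 80,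
   90, 100, 120, 144, 150, 180, 200, 225, 240, 300, 360, 400, 450, 600, 720, 900, 1200, 1800,
   3600]⟩

/-- The data for the alternating group of degree six. -/
def altSix : Problem :=
  ⟨[1, 45, 80, 90, 144], 45, [80, 90, 144], [(2, 5), (3, 3), (5, 2), (7, 1)], 32, 27, 25, 7,
  [3, 4, 5, 6, 7, 8, 9, 10, 12, 14, 15, 16, 18, 20, 21, 24, 25, 27, 28, 30, 32, 35, 36, 40, 42,
   45, 48, 50, 54, 56, 60, 63, 70, 72, 75, 80, 84, 90, 96, 100, 105, 108, 112, 120, 126, 135,
   140, 144, 150, 160, 168, 175, 180, 189, 200, 210, 216, 224, 225, 240, 252, 270, 280, 288,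
   300, 315, 336, 350, 360, 378, 400, 420, 432, 450, 480, 504, 525, 540, 560, 600, 630, 672,
   675, 700, 720, 756, 800, 840, 864, 900, 945, 1008, 1050, 1080, 1120, 1200, 1260, 1350, 1400,
   1440, 1512, 1575, 1680, 1800, 1890, 2016, 2100, 2160, 2400, 2520, 2700, 2800, 3024, 3150,
   3360, 3600, 3780, 4200, 4320, 4725, 5040, 5400, 5600, 6048, 6300, 7200, 7560, 8400, 9450,
   10080, 10800, 12600, 15120, 16800, 18900, 21600, 25200, 30240, 37800, 50400, 75600, 151200]⟩

theorem altFour_valid : altFour.valid = true := by decide +kernel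

theorem altFive_valid : altFive.valid = true := by decide +kernel

theorem altSix_valid : altSix.valid = true := by decide +kernel

theorem altFour_solutions : altFour.solutions = [[(1, 1), (2, 3), (3, 8)]] := by decide +kernel

theorem altFive_solutions : altFive.solutions = [[(1, 1), (2, 15), (3, 20), (5, 24)]] := by
  decide +kernel

theorem altSix_solutions :
    altSix.solutions = [[(1, 1), (2, 45), (3, 80), (4, 90), (5, 144)]] := by decide +kernel

end CfsgLib.Orders.SameOrder
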