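import Cfsg.Agent.Lib.Orders.SameOrder.Data
import Cfsg.Agent.Lib.Recog.SimpleSixty
import Cfsg.Agent.S0497
import Mathlib.GroupTheory.SpecificGroups.Alternating

/-!
# Groups with the same-order counts of small alternating groups
-/

set_option autoImplicit false

namespace CfsgLib.Orders.SameOrder

open CfsgLib.Orders.ThreeCounts Subgroup

/-- Counting the order of `g` below `m`. -/
def ordC {H : Type*} [Monoid H] [DecidableEq H] (g : H) (m : ℕ) : Bool :=
  decide (g ^ m = 1) && (List.range m).all fun k => k == 0 || decide (g ^ k ≠ 1)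

theorem ordC_iff {H : Type*} [Monoid H] [DecidableEq H] (g : H) {m : ℕ} (hm : 0 < m) :
    ordC g m = true ↔ orderOf g = m := by
  rw [orderOf_eq_iff hm]
  simp only [ordC, Bool.and_eq_true, decide_eq_true_eq, List.all_eq_true, List.mem_range,
    Bool.or_eq_true, beq_iff_eq]
  constructor
  · rintro ⟨h1, h2⟩
    exact ⟨h1, fun k hk hk0 => (h2 k hk).resolve_left (by omega)⟩
  · rintro ⟨h1, h2⟩
    exact ⟨h1, fun k hk => (Nat.eq_zero_or_pos k).imp id (h2 k hk)⟩

/-- The set of counts, from a table. -/
theorem image_of_table {H : Type*} [Group H] [Fintype H] [DecidableEq H] (ms vals : List ℕ)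
    (hlen : ms.map (fun m => (Finset.univ.filter fun g : H => ordC g m = true).card) = vals)
    (hpos : ∀ m ∈ ms, 0 < m) (hnz : (0 : ℕ) ∉ vals)
    (hall : ∀ g : H, ms.any (fun m => ordC g m) = true) :
    (fun m : ℕ => Nat.card {g : H // orderOf g = m}) '' Set.range (orderOf : H → ℕ) =
      {v | v ∈ vals} := by
  have hc : ∀ m, 0 < m → Nat.card {g : H // orderOf g = m} =
      (Finset.univ.filter fun g : H => ordC g m = true).card := fun m hm => by
    rw [Nat.card_eq_fintype_card, Fintype.card_subtype]
    congr 1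
    ext g
    simp [ordC_iff g hm]
  ext v
  simp only [Set.mem_image, Set.mem_range, Set.mem_setOf_eq, ← hlen, List.mem_map]
  constructor
  · rintro ⟨m, ⟨g, rfl⟩, rfl⟩
    obtain ⟨m, hm, hg⟩ := List.any_eq_true.1 (hall g)
    obtain rfl := (ordC_iff g (hpos m hm)).1 hg
    exact ⟨_, hm, (hc _ (hpos _ hm)).symm⟩
  · rintro ⟨m, hm, rfl⟩
    have hne : (Finset.univ.filter fun g : H => ordC g m = true).card ≠ 0 := fun e =>
      hnz (hlen ▸ List.mem_map.2 ⟨m, hm, e⟩)
    obtain ⟨g, hg⟩ := Finset.card_pos.1 (Nat.pos_of_ne_zero hne)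
    exact ⟨m, ⟨g, (ordC_iff g (hpos m hm)).1 (Finset.mem_filter.1 hg).2⟩, hc m (hpos m hm)⟩

theorem image_alt_four :
    (fun m : ℕ => Nat.card {g : alternatingGroup (Fin 4) // orderOf g = m}) ''
      Set.range (orderOf : alternatingGroup (Fin 4) → ℕ) = {v | v ∈ altFour.vals} :=
  image_of_table [1, 2, 3] altFour.vals (by decide +kernel) (by decide) (by decide)
    (by decide +kernel)

theorem image_alt_five :
    (fun m : ℕ => Nat.card {g : alternatingGroup (Fin 5) // orderOf g = m}) ''
      Set.range (orderOf : alternatingGroup (Fin 5) → ℕ) = {v | v ∈ altFive.vals} :=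
  image_of_table [1, 2, 3, 5] altFive.vals (by decide +kernel) (by decide) (by decide)
    (by decide +kernel)

theorem image_alt_six :
    (fun m : ℕ => Nat.card {g : alternatingGroup (Fin 6) // orderOf g = m}) ''
      Set.range (orderOf : alternatingGroup (Fin 6) → ℕ) = {v | v ∈ altSix.vals} :=
  image_of_table [1, 2, 3, 4, 5] altSix.vals (by decide +kernel) (by decide) (by decide)
    (by decide +kernel)

variable {G : Type*} [Group G] [Finite G]

/-- What the search gives: the counts, and the order. -/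
theorem counts_of_solution {T : List ℕ} (hnd : T.Nodup) {s : List (ℕ × ℕ)}
    (hs : truth G T = s) (hT : ∀ k, cnt G k ≠ 0 → k ∈ T) :
    (∀ q ∈ s, cnt G q.1 = q.2) ∧ (∀ k, cnt G k ≠ 0 → k ∈ s.map Prod.fst) ∧
      Nat.card G = (s.map Prod.snd).sum := by
  subst hs
  refine ⟨fun q hq => (mem_truth.1 hq).2.2.symm, fun k hk => List.mem_map.2
    ⟨(k, cnt G k), mem_truth.2 ⟨hT k hk, hk, rfl⟩, rfl⟩, ?_⟩
  have h := psum_truth (G := G) hnd (d := Nat.card G) Nat.card_pos.ne' fun k _ hk => hT k hk
  rw [Nat.card_congr (Equiv.subtypeUnivEquiv fun x : G => pow_card_eq_one')] at h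
  rw [← h, psum, List.filter_eq_self.2]
  intro q hq
  simp only [beq_iff_eq]
  exact Nat.mod_eq_zero_of_dvd (dvd_card_of_cnt (mem_truth.1 hq).2.1)

/-- Elements of order `p` lie in a normal subgroup of index prime to `p`. -/
theorem mem_of_index {N : Subgroup G} [N.Normal] {p : ℕ} (hp : p.Prime) (hidx : ¬ p ∣ N.index)
    {g : G} (hg : orderOf g = p) : g ∈ N := by
  have hd : orderOf (QuotientGroup.mk' N g) ∣ p := hg ▸ orderOf_map_dvd (QuotientGroup.mk' N) g
  rcases (Nat.dvd_prime hp).1 hd with e | e
  · exact (QuotientGroup.eq_one_iff g).1 (orderOf_eq_one_iff.1 e)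
  · exact absurd (e ▸ orderOf_dvd_natCard (QuotientGroup.mk' N g)) hidx

omit [Finite G] in
/-- The count in a subgroup containing all elements of that order. -/
theorem cnt_subgroup {N : Subgroup G} {p : ℕ} (h : ∀ g : G, orderOf g = p → g ∈ N) :
    cnt N p = cnt G p := Nat.card_congr
  { toFun := fun g => ⟨g.1.1, by rw [Subgroup.orderOf_coe]; exact g.2⟩
    invFun := fun g => ⟨⟨g.1, h g.1 g.2⟩, by rw [Subgroup.orderOf_mk]; exact g.2⟩
    left_inv := fun _ => rfl
    right_inv := fun _ => rfl }

/-- A group of order `5 n` with elements of order at most five and the given counts is simple. -/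
theorem isSimpleGroup_of_counts {n k : ℕ} (h : Nat.card G = 5 * n) (hn5 : ¬ 5 ∣ n)
    (hord : ∀ m, cnt G m ≠ 0 → m ≤ 5) (h5 : cnt G 5 ≠ 0) (hbig3 : n ≤ cnt G 3)
    (hdiv5 : ∀ d ∈ n.divisors, d = n ∨ 5 * d ≤ cnt G 5 ∨
      (3 ^ k ∣ d ∧ 5 * d ≤ cnt G 5 + cnt G 3))
    (hmax : ¬ 3 ^ (k + 1) ∣ n)
    (hsix : ∀ d ∈ n.divisors, d % 5 = 1 → d = 1 ∨ 3 ^ k ∣ d ∨ d = 6) : IsSimpleGroup G := by
  classical
  haveI : Fact (Nat.Prime 5) := ⟨by norm_num⟩
  have hn0 : n ≠ 0 := fun e => hn5 (e ▸ dvd_zero 5)
  haveI : Nontrivial G := by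
    rw [← Finite.one_lt_card_iff_nontrivial, h]
    omega
  refine ⟨fun N hN => ?_⟩
  by_contra hcon
  push Not at hcon
  obtain ⟨hbot, htop⟩ := hcon
  have hmul := N.card_mul_index
  rw [h] at hmul
  have hidx3 : 3 ^ k ∣ Nat.card N → ¬ 3 ∣ N.index := fun hd hidx => hmax (by
    refine ((by norm_num : Nat.Coprime 3 5).pow_left _).dvd_of_dvd_mul_left ?_
    rw [← hmul, pow_succ]
    exact mul_dvd_mul hd hidx)
  by_cases h5N : 5 ∣ Nat.card N
  · obtain ⟨d, hd⟩ := h5N
    rw [hd, mul_assoc] at hmul
    have hmul' : d * N.index = n := Nat.eq_of_mul_eq_mul_left (by norm_num) hmul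
    have hidx5 : ¬ 5 ∣ N.index := fun hi => hn5 (hmul' ▸ dvd_mul_of_dvd_right hi d)
    have e5 := cnt_subgroup (N := N) fun g hg => mem_of_index (p := 5) (by norm_num) hidx5 hg
    rcases hdiv5 d (Nat.mem_divisors.2 ⟨⟨_, hmul'.symm⟩, hn0⟩) with e | e | ⟨e3, e⟩
    · exact htop (Subgroup.eq_top_of_card_eq _ (by rw [hd, h, e]))
    · have := sum_le_card (G := N) {1, 5}
      rw [Finset.sum_pair (by norm_num), cnt_one, e5, hd] at this
      omega
    · have e3' := cnt_subgroup (N := N) fun g hg => mem_of_index Nat.prime_three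
        (hidx3 (hd ▸ dvd_mul_of_dvd_right e3 5)) hg
      have := sum_le_card (G := N) {1, 3, 5}
      rw [Finset.sum_insert (show (1 : ℕ) ∉ ({3, 5} : Finset ℕ) by decide),
        Finset.sum_pair (show (3 : ℕ) ≠ 5 by decide), cnt_one, e5, e3', hd] at this
      omega
  · -- an element of order five acts without fixed points
    have hNn : Nat.card N ∣ n := by
      refine (((by norm_num : Nat.Prime 5).coprime_iff_not_dvd).2 h5N).symm.dvd_of_dvd_mul_left ?_
      exact h ▸ card_subgroup_dvd_card N
    obtain ⟨y, hy⟩ := exists_of_cnt h5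
    let _ : MulAction (zpowers y) N := MulAction.compHom N
      ((MulAut.conjNormal (G := G) (H := N)).comp (zpowers y).subtype)
    have hgrp : IsPGroup 5 (zpowers y) :=
      IsPGroup.of_card (n := 1) (by rw [Nat.card_zpowers, hy, pow_one])
    have hone : ∀ u ∈ MulAction.fixedPoints (zpowers y) N, u = (1 : N) := by
      intro u hu
      have hu' : y * (u : G) * y⁻¹ = u := congrArg Subtype.val (hu ⟨y, mem_zpowers y⟩)
      have hcomm : Commute y (u : G) := mul_inv_eq_iff_eq_mul.1 hu'
      have hco : (orderOf y).Coprime (orderOf (u : G)) := by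
        rw [hy]
        exact (Nat.Prime.coprime_iff_not_dvd (by norm_num)).2 fun hd =>
          h5N (hd.trans (Subgroup.orderOf_dvd_natCard N u.2))
      have hle := hord _ (cnt_pos (y * (u : G))).ne'
      rw [hcomm.orderOf_mul_eq_mul_orderOf_of_coprime hco, hy] at hle
      have := orderOf_pos (u : G)
      exact Subtype.ext (orderOf_eq_one_iff.1 (by omega : orderOf (u : G) = 1))
    have hfix : Nat.card (MulAction.fixedPoints (zpowers y) N) = 1 := by
      rw [Nat.card_eq_one_iff_unique]
      exact ⟨⟨fun a b => Subtype.ext ((hone a.1 a.2).trans (hone b.1 b.2).symm)⟩,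
        ⟨⟨1, fun g => map_one (MulAut.conjNormal (G := G) (H := N) (g : G))⟩⟩⟩
    have hmod := hgrp.card_modEq_card_fixedPoints N
    rw [hfix] at hmod
    rcases hsix _ (Nat.mem_divisors.2 ⟨hNn, hn0⟩) (by simpa [Nat.ModEq] using hmod) with e | e | e
    · exact hbot (Subgroup.card_eq_one.1 e)
    · have e3' := cnt_subgroup (N := N) fun g hg => mem_of_index Nat.prime_three (hidx3 e) hg
      have := sum_le_card (G := N) {1, 3}
      rw [Finset.sum_pair (by norm_num), cnt_one, e3'] at this
      have := Nat.le_of_dvd (Nat.pos_of_ne_zero hn0) hNn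
      omega
    · -- the elements of order three fall into orbits of five
      let S := {u : N // orderOf u = 3}
      let _ : MulAction (zpowers y) S :=
        { smul := fun g u => ⟨MulAut.conjNormal (g : G) u.1, by
            rw [MulEquiv.orderOf_eq]; exact u.2⟩
          one_smul := fun u => Subtype.ext (by
            show MulAut.conjNormal ((1 : zpowers y) : G) u.1 = u.1
            rw [Subgroup.coe_one, map_one]; rfl)
          mul_smul := fun a b u => Subtype.ext (by
            show MulAut.conjNormal ((a * b : zpowers y) : G) u.1 =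
              MulAut.conjNormal (a : G) (MulAut.conjNormal (b : G) u.1)
            rw [Subgroup.coe_mul, map_mul]; rfl) }
      have hS := hgrp.card_modEq_card_fixedPoints S
      haveI : IsEmpty (MulAction.fixedPoints (zpowers y) S) := ⟨fun u => by
        have h1 := hone u.1.1 fun g => congrArg Subtype.val (u.2 g)
        have h2 := u.1.2
        rw [h1, orderOf_one] at h2
        omega⟩
      rw [Nat.card_of_isEmpty (α := MulAction.fixedPoints (zpowers y) S)] at hS
      have h3pos : cnt N 3 ≠ 0 := by
        haveI : Fact (Nat.Prime 3) := ⟨Nat.prime_three⟩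
        obtain ⟨w, hw⟩ := exists_prime_orderOf_dvd_card' (G := N) 3 (by rw [e]; norm_num)
        exact hw ▸ (cnt_pos w).ne'
      have h2pos : cnt N 2 ≠ 0 := by
        haveI : Fact (Nat.Prime 2) := ⟨Nat.prime_two⟩
        obtain ⟨w, hw⟩ := exists_prime_orderOf_dvd_card' (G := N) 2 (by rw [e]; norm_num)
        exact hw ▸ (cnt_pos w).ne'
      have h5d : 5 ∣ cnt N 3 := Nat.modEq_zero_iff_dvd.1 hS
      have := Nat.le_of_dvd (Nat.pos_of_ne_zero h3pos) h5d
      have hsum := sum_le_card (G := N) {1, 2, 3}
      rw [Finset.sum_insert (show (1 : ℕ) ∉ ({2, 3} : Finset ℕ) by decide),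
        Finset.sum_pair (show (2 : ℕ) ≠ 3 by decide), cnt_one, e] at hsum
      omega

/-- Order twelve with eight elements of order three gives `A₄`. -/
theorem iso_alt_four (h : Nat.card G = 12) (h3 : cnt G 3 = 8) :
    Nonempty (G ≃* alternatingGroup (Fin 4)) := by
  classical
  haveI : Fact (Nat.Prime 3) := ⟨Nat.prime_three⟩
  have hm : Nat.card G = 3 ^ 1 * 4 := h
  have hall : ∀ P : Sylow 3 G, Nat.card (P : Subgroup G) = 3 := fun P => by
    rw [CfsgLib.Perm.sylow_card_eq P hm (by norm_num), pow_one]
  obtain ⟨P⟩ := (inferInstance : Nonempty (Sylow 3 G))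
  have hnn : ¬ (P : Subgroup G).Normal := fun hn => by
    have hidx : ¬ 3 ∣ (P : Subgroup G).index := P.not_dvd_index
    have := sum_le_card (G := (P : Subgroup G)) {3}
    rw [Finset.sum_singleton, cnt_subgroup fun g hg => mem_of_index Nat.prime_three hidx hg, h3,
      hall] at this
    omega
  have hk : Nat.card (Sylow 3 G) = 4 := by
    have hdvd : Nat.card (Sylow 3 G) ∣ 4 := CfsgLib.Perm.card_sylow_dvd_of_card_eq hm
    have hmod : Nat.card (Sylow 3 G) % 3 = 1 := by simpa [Nat.ModEq] using card_sylow_modEq_one 3 G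
    have hne : Nat.card (Sylow 3 G) ≠ 1 := fun e1 => by
      haveI : Subsingleton (Sylow 3 G) := (Nat.card_eq_one_iff_unique.1 e1).1
      exact hnn P.normal_of_subsingleton
    have := Nat.le_of_dvd (by norm_num) hdvd
    interval_cases hc : Nat.card (Sylow 3 G) <;> omega
  have hnorm : ∀ Q : Sylow 3 G, normalizer ((Q : Subgroup G) : Set G) = (Q : Subgroup G) := by
    intro Q
    have hc := CfsgLib.Perm.card_normalizer_mul_card_sylow Q
    rw [hk, h] at hc
    exact (eq_of_le_of_card_ge le_normalizer (by rw [hall]; omega)).symm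
  let f : G →* Equiv.Perm (Sylow 3 G) := MulAction.toPermHom G (Sylow 3 G)
  have hf : Function.Injective f := by
    rw [← MonoidHom.ker_eq_bot_iff]
    by_contra hne
    have hle : f.ker ≤ (P : Subgroup G) := fun g hg => by
      rw [← hnorm P]
      exact Sylow.smul_eq_iff_mem_normalizer.1
        (congrArg (fun σ : Equiv.Perm (Sylow 3 G) => σ P) (MonoidHom.mem_ker.1 hg))
    have hcd := card_dvd_of_le hle
    rw [hall] at hcd
    rcases (Nat.dvd_prime Nat.prime_three).1 hcd with e | e
    · exact hne (Subgroup.card_eq_one.1 e)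
    · exact hnn (eq_of_le_of_card_ge hle (by rw [hall, e]) ▸ MonoidHom.normal_ker f)
  haveI := Fintype.ofFinite (Sylow 3 G)
  let e : Sylow 3 G ≃ Fin 4 := Finite.equivFinOfCardEq hk
  let f' : G →* Equiv.Perm (Fin 4) := e.permCongrHom.toMonoidHom.comp f
  have hf' : Function.Injective f' := e.permCongrHom.injective.comp hf
  have hrange : f'.range = alternatingGroup (Fin 4) := by
    refine Equiv.Perm.eq_alternatingGroup_of_index_eq_two ?_
    have h1 := f'.range.card_mul_index
    rw [← Nat.card_congr (MonoidHom.ofInjective hf').toEquiv, h, Nat.card_perm, Nat.card_fin] at h1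
    norm_num [Nat.factorial] at h1
    omega
  exact ⟨(MonoidHom.ofInjective hf').trans (MulEquiv.subgroupCongr hrange)⟩

/-- The counts of a small alternating group determine it. -/
theorem iso_of_counts (n : ℕ) (hn : n = 4 ∨ n = 5 ∨ n = 6)
    (h : (fun m : ℕ => Nat.card {g : G // orderOf g = m}) '' Set.range (orderOf : G → ℕ) =
      (fun m : ℕ => Nat.card {g : alternatingGroup (Fin n) // orderOf g = m}) ''
        Set.range (orderOf : alternatingGroup (Fin n) → ℕ)) :
    Nonempty (G ≃* alternatingGroup (Fin n)) := by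
  rcases hn with rfl | rfl | rfl
  · obtain ⟨hmem, hT⟩ := exists_solution altFour altFour_valid (by decide +kernel) (by decide +kernel)
      (h.trans image_alt_four)
    rw [altFour_solutions, List.mem_singleton] at hmem
    obtain ⟨hc, -, hcard⟩ := counts_of_solution (by decide +kernel) hmem hT
    exact iso_alt_four hcard (hc (3, 8) (by simp))
  · obtain ⟨hmem, hT⟩ := exists_solution altFive altFive_valid (by decide +kernel) (by decide +kernel)
      (h.trans image_alt_five)
    rw [altFive_solutions, List.mem_singleton] at hmem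
    obtain ⟨hc, hmax, hcard⟩ := counts_of_solution (by decide +kernel) hmem hT
    have h3 : cnt G 3 = 20 := hc (3, 20) (by simp)
    have h5 : cnt G 5 = 24 := hc (5, 24) (by simp)
    haveI : IsSimpleGroup G := isSimpleGroup_of_counts (n := 12) (k := 1) hcard (by norm_num)
      (fun m hm => by have := hmax m hm; simp at this; omega) (by omega) (by omega)
      (by rw [h3, h5]; decide +kernel) (by norm_num) (by decide +kernel)
    exact CfsgLib.Recog.Sixty.iso_alt_five hcard
  · obtain ⟨hmem, hT⟩ := exists_solution altSix altSix_valid (by decide +kernel) (by decide +kernel)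
      (h.trans image_alt_six)
    rw [altSix_solutions, List.mem_singleton] at hmem
    obtain ⟨hc, hmax, hcard⟩ := counts_of_solution (by decide +kernel) hmem hT
    have h3 : cnt G 3 = 80 := hc (3, 80) (by simp)
    have h5 : cnt G 5 = 144 := hc (5, 144) (by simp)
    haveI : IsSimpleGroup G := isSimpleGroup_of_counts (n := 72) (k := 2) hcard (by norm_num)
      (fun m hm => by have := hmax m hm; simp at this; omega) (by omega) (by omega)
      (by rw [h3, h5]; decide +kernel) (by norm_num) (by decide +kernel)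
    exact Cfsg.Agent.S0497.result hcard

end CfsgLib.Orders.SameOrder
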