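import Cfsg.Agent.Lib.Orders.ThreeCounts
import Cfsg.Agent.Lib.Orders.TwoOrderCounts

/-!
# The counts of elements of each order, from the set of their values

A verified search for the possible functions `m ↦ #{g : orderOf g = m}` with a given set of values,
by Frobenius's theorem (`d ∣ #{g : g ^ d = 1}`) and Euler's function.
-/

set_option autoImplicit false

namespace CfsgLib.Orders.SameOrder

open CfsgLib.Orders.ThreeCounts

/-- The number of elements with `g ^ d = 1`, from a list of orders and counts. -/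
def psum (c : List (ℕ × ℕ)) (d : ℕ) : ℕ := ((c.filter fun q => d % q.1 == 0).map Prod.snd).sum

/-- The least common multiple of the listed divisors of `m`. -/
def lcmPart (c : List (ℕ × ℕ)) (m : ℕ) : ℕ :=
  ((c.filter fun q => m % q.1 == 0).map Prod.fst).foldl Nat.lcm 1

/-- The quotients of `m` by its small primes are listed. -/
def predsIn (c : List (ℕ × ℕ)) (m : ℕ) : Bool :=
  [2, 3, 5, 7].all fun p => m % p != 0 || c.any fun q => q.1 == m / p

/-- Euler's function of the small divisors of `m` divides `v`. -/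
def totOK (c : List (ℕ × ℕ)) (m v : ℕ) : Bool :=
  (36 < m || v % Nat.totient m == 0) &&
    c.all fun q => m % q.1 != 0 || 36 < q.1 || v % Nat.totient q.1 == 0

/-- The possible continuations at the order `m`. -/
def choices (ev : List ℕ) (c : List (ℕ × ℕ)) (m : ℕ) : List (List (ℕ × ℕ)) :=
  (if lcmPart c m == m && psum c m % m != 0 then [] else [c]) ++
    (if predsIn c m then
      (ev.filter fun v => (psum c m + v) % m == 0 && totOK c m v).map fun v => c ++ [(m, v)]
    else [])

/-- All possibilities for the orders in `D`. -/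
def search (ev : List ℕ) : List ℕ → List (List (ℕ × ℕ)) → List (List (ℕ × ℕ))
  | [], L => L
  | m :: D, L => search ev D (L.flatMap fun c => choices ev c m)

/-- All values occur, and Frobenius's theorem holds. -/
def finalOK (vals : List ℕ) (c : List (ℕ × ℕ)) : Bool :=
  vals.all (fun v => c.any fun q => q.2 == v) &&
    (List.range ((c.map Prod.snd).sum + 1)).all fun d =>
      (c.map Prod.snd).sum % d != 0 || psum c d % d == 0

/-- The odd primes that may divide the order are listed in `caps`, with the exponents of `E`. -/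
def capsOK (vals ev : List ℕ) (caps : List (ℕ × ℕ)) (E : ℕ) : Bool :=
  ((List.range 146).all fun p => p < 2 || caps.any (fun q => q.1 == p) ||
      (List.range p).any (fun i => 1 < i && p % i == 0) ||
      vals.all fun v => v % p != p - 1 || (2 < p && v % (p - 1) != 0)) &&
    caps.all (fun q => 1 ≤ q.2 && E % q.1 ^ q.2 == 0 && ev.all fun v => v % (q.1 ^ q.2 * (q.1 - 1)) != 0) &&
    vals.all (fun v => v < 145)

/-- The orders searched are increasing and contain all divisors of `a * b * c * d` above two. -/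
def ordersOK (D : List ℕ) (a b c d : ℕ) : Bool :=
  (List.range (a + 1)).all fun x => a % x != 0 || (List.range (b + 1)).all fun y => b % y != 0 ||
    (List.range (c + 1)).all fun z => c % z != 0 || (List.range (d + 1)).all fun w => d % w != 0 ||
      x * y * z * w ≤ 2 || D.contains (x * y * z * w)

/-- The search data of one group. -/
structure Problem where
  /-- the values -/
  vals : List ℕ
  /-- the number of involutions -/
  inv : ℕ
  /-- the even values -/
  ev : List ℕ
  /-- primes and exponents -/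
  caps : List (ℕ × ℕ)
  /-- the first factor of the largest exponent -/
  a : ℕ
  /-- the second factor -/
  b : ℕ
  /-- the third factor -/
  c : ℕ
  /-- the fourth factor -/
  d : ℕ
  /-- the orders to be searched -/
  D : List ℕ

/-- The numerical hypotheses on the data. -/
def Problem.valid (Q : Problem) : Bool :=
  (Q.vals.all fun v => v % 2 == 0 && Q.ev.contains v || v == 1 || v == Q.inv) &&
    Q.inv % 2 == 1 && Q.inv != 1 && Q.vals.contains Q.inv &&
    capsOK Q.vals Q.ev Q.caps (Q.a * Q.b * Q.c * Q.d) && Q.a * Q.b * Q.c * Q.d != 0 &&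
      ordersOK Q.D Q.a Q.b Q.c Q.d

/-- The surviving possibilities. -/
def Problem.solutions (Q : Problem) : List (List (ℕ × ℕ)) :=
  (search Q.ev Q.D [[(1, 1), (2, Q.inv)]]).filter (finalOK Q.vals)

variable {G : Type*} [Group G] [Finite G]

open scoped Classical in
/-- The true list of orders and counts. -/
noncomputable def truth (G : Type*) [Group G] (pre : List ℕ) : List (ℕ × ℕ) :=
  (pre.filter fun k => decide (cnt G k ≠ 0)).map fun k => (k, cnt G k)

theorem mem_truth {pre : List ℕ} {q : ℕ × ℕ} :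
    q ∈ truth G pre ↔ q.1 ∈ pre ∧ cnt G q.1 ≠ 0 ∧ q.2 = cnt G q.1 := by
  classical
  obtain ⟨k, v⟩ := q
  simp only [truth, List.mem_map, List.mem_filter, decide_eq_true_eq, Prod.mk.injEq]
  constructor
  · rintro ⟨j, ⟨h1, h2⟩, rfl, rfl⟩
    exact ⟨h1, h2, rfl⟩
  · rintro ⟨h1, h2, rfl⟩
    exact ⟨k, ⟨h1, h2⟩, rfl, rfl⟩

theorem cnt_ne_zero_of_dvd {m d : ℕ} (h : cnt G m ≠ 0) (hd : d ∣ m) : cnt G d ≠ 0 := by
  obtain ⟨x, hx⟩ := exists_of_cnt h
  obtain ⟨e, he⟩ := hd
  have hx0 : 0 < m := hx ▸ orderOf_pos x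
  have he0 : e ≠ 0 := fun h0 => by rw [h0, mul_zero] at he; omega
  have : orderOf (x ^ e) = d := by
    rw [orderOf_pow' x he0, hx, he, Nat.gcd_mul_left_left, Nat.mul_div_cancel _ (Nat.pos_of_ne_zero he0)]
  exact this ▸ (cnt_pos (x ^ e)).ne'

/-- The list sum is the number of solutions of `g ^ d = 1`. -/
theorem psum_truth {pre : List ℕ} (hnd : pre.Nodup) {d : ℕ} (hd : d ≠ 0)
    (hall : ∀ k, k ∣ d → cnt G k ≠ 0 → k ∈ pre) :
    psum (truth G pre) d = Nat.card {x : G // x ^ d = 1} := by
  classical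
  rw [CfsgLib.Orders.TwoCounts.card_pow_eq_one_eq_sum hd]
  have e : psum (truth G pre) d =
      ((pre.filter fun k => decide (cnt G k ≠ 0 ∧ k ∣ d)).map (cnt G)).sum := by
    simp only [psum, truth, List.filter_map, List.map_map]
    congr 1
    rw [List.filter_filter]
    congr 1
    refine List.filter_congr fun k _ => ?_
    by_cases h1 : cnt G k = 0 <;> by_cases h2 : k ∣ d <;>
      simp [h1, h2, ← Nat.dvd_iff_mod_eq_zero]
  rw [e, ← List.sum_toFinset _ (hnd.filter _)]
  refine Finset.sum_subset (fun k hk => ?_) (fun k hk hk' => ?_)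
  · simp only [List.mem_toFinset, List.mem_filter, decide_eq_true_eq] at hk
    exact Nat.mem_divisors.2 ⟨hk.2.2, hd⟩
  · simp only [List.mem_toFinset, List.mem_filter, decide_eq_true_eq, not_and] at hk'
    by_contra hne
    have hkd := (Nat.mem_divisors.1 hk).1
    exact hk' (hall k hkd hne) hne hkd

theorem foldl_lcm_dvd {N : ℕ} (l : List ℕ) (h : ∀ x ∈ l, x ∣ N) :
    ∀ a, a ∣ N → l.foldl Nat.lcm a ∣ N := by
  induction l with
  | nil => exact fun a ha => ha
  | cons x l ih =>
    intro a ha
    exact ih (fun y hy => h y (List.mem_cons_of_mem _ hy)) _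
      (Nat.lcm_dvd ha (h x List.mem_cons_self))

theorem dvd_card_of_cnt {k : ℕ} (h : cnt G k ≠ 0) : k ∣ Nat.card G := by
  obtain ⟨x, hx⟩ := exists_of_cnt h
  exact hx ▸ orderOf_dvd_natCard x

theorem truth_append (pre : List ℕ) (m : ℕ) :
    truth G (pre ++ [m]) = if cnt G m = 0 then truth G pre else truth G pre ++ [(m, cnt G m)] := by
  classical
  by_cases h : cnt G m = 0 <;> simp [truth, h]

theorem mem_choices {ev : List ℕ} {pre : List ℕ} {m : ℕ} (hnd : pre.Nodup) (hm : m ∉ pre)
    (hm3 : 3 ≤ m) (hall : ∀ k, k ∣ m → cnt G k ≠ 0 → k ∈ pre ∨ k = m)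
    (hev : cnt G m ≠ 0 → cnt G m ∈ ev) :
    truth G (pre ++ [m]) ∈ choices ev (truth G pre) m := by
  classical
  have hdvd : ∀ n, n ∣ Nat.card G → n ∣ Nat.card {x : G // x ^ n = 1} := fun n hn =>
    CfsgLib.Orders.dvd_card_pow_eq_one n hn
  rw [truth_append]
  split_ifs with h0
  · refine List.mem_append_left _ ?_
    rw [if_neg, List.mem_singleton]
    rw [Bool.and_eq_true, beq_iff_eq, bne_iff_ne]
    rintro ⟨hl, hs⟩
    refine hs (Nat.mod_eq_zero_of_dvd ?_)
    rw [psum_truth hnd (by omega) fun k hk hne => (hall k hk hne).resolve_right fun e => hne (e ▸ h0)]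
    refine hdvd m (hl ▸ foldl_lcm_dvd _ (fun x hx => ?_) 1 (one_dvd _))
    obtain ⟨q, hq, rfl⟩ := List.mem_map.1 hx
    exact dvd_card_of_cnt (mem_truth.1 (List.mem_filter.1 hq).1).2.1
  · refine List.mem_append_right _ ?_
    have hpre : predsIn (truth G pre) m = true := by
      simp only [predsIn, List.all_eq_true, Bool.or_eq_true, bne_iff_ne, List.any_eq_true, beq_iff_eq]
      intro p hp
      rcases Nat.eq_zero_or_pos (m % p) with hmp | hmp
      · right
        have hpd : p ∣ m := Nat.dvd_of_mod_eq_zero hmp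
        have hp2 : 2 ≤ p := by
          simp only [List.mem_cons, List.not_mem_nil, or_false] at hp
          omega
        have hq := cnt_ne_zero_of_dvd h0 (Nat.div_dvd_of_dvd hpd)
        have hlt : m / p < m := Nat.div_lt_self (by omega) hp2
        exact ⟨(m / p, cnt G (m / p)), mem_truth.2
          ⟨(hall _ (Nat.div_dvd_of_dvd hpd) hq).resolve_right hlt.ne, hq, rfl⟩, rfl⟩
      · exact Or.inl hmp.ne'
    rw [if_pos hpre, List.mem_map]
    refine ⟨cnt G m, ?_, rfl⟩
    simp only [List.mem_filter, Bool.and_eq_true, beq_iff_eq, totOK, Bool.or_eq_true,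
      decide_eq_true_eq, List.all_eq_true, bne_iff_ne]
    refine ⟨hev h0, Nat.mod_eq_zero_of_dvd ?_, Or.inr (Nat.mod_eq_zero_of_dvd (totient_dvd_cnt m)),
      fun q hq => ?_⟩
    · have hs : psum (truth G (pre ++ [m])) m = psum (truth G pre) m + cnt G m := by
        rw [truth_append, if_neg h0]
        simp [psum]
      rw [← hs, psum_truth (pre := pre ++ [m]) (d := m) (by simp [List.nodup_append, hnd, hm]; exact fun a ha e => hm (e ▸ ha))
        (by omega) fun k hk hne => by
          rcases hall k hk hne with h | h <;> simp [h]]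
      exact hdvd m (dvd_card_of_cnt h0)
    · by_cases hdm : q.1 ∣ m
      · exact Or.inr (Nat.mod_eq_zero_of_dvd
          ((Nat.totient_dvd_of_dvd hdm).trans (totient_dvd_cnt m)))
      · exact Or.inl (Or.inl fun e => hdm (Nat.dvd_of_mod_eq_zero e))

theorem mem_search {ev : List ℕ} {T : List ℕ} (hev : ∀ m, 3 ≤ m → cnt G m ≠ 0 → cnt G m ∈ ev)
    (hT : ∀ k, cnt G k ≠ 0 → k ∈ T) (hsort : T.Pairwise (· < ·)) :
    ∀ (D pre : List ℕ) (L : List (List (ℕ × ℕ))), pre ++ D = T → (∀ m ∈ D, 3 ≤ m) →
      truth G pre ∈ L → truth G T ∈ search ev D L := by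
  intro D
  induction D with
  | nil =>
    intro pre L h _ hL
    rw [List.append_nil] at h
    exact h ▸ hL
  | cons m D ih =>
    intro pre L h h3 hL
    refine ih (pre ++ [m]) _ (by rw [List.append_assoc, List.singleton_append, h])
      (fun x hx => h3 x (List.mem_cons_of_mem _ hx)) (List.mem_flatMap.2 ⟨_, hL, ?_⟩)
    have hs := hsort
    rw [← h, List.pairwise_append, List.pairwise_cons] at hs
    refine mem_choices (hs.1.imp fun h => h.ne) (fun hm => ?_) (h3 m List.mem_cons_self) ?_
      (hev m (h3 m List.mem_cons_self))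
    · exact lt_irrefl m (hs.2.2 m hm m List.mem_cons_self)
    · intro k hk hne
      have := hT k hne
      rw [← h] at this
      rcases List.mem_append.1 this with h' | h'
      · exact Or.inl h'
      · rcases List.mem_cons.1 h' with h' | h'
        · exact Or.inr h'
        · have := Nat.le_of_dvd (by have := h3 m List.mem_cons_self; omega) hk
          have := hs.2.1.1 k h'
          omega

theorem cnt_two_odd (h : 2 ∣ Nat.card G) : cnt G 2 % 2 = 1 := by
  have h2 := CfsgLib.Orders.dvd_card_pow_eq_one 2 h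
  rw [CfsgLib.Orders.TwoCounts.card_pow_eq_one_eq_sum two_ne_zero,
    CfsgLib.Orders.TwoCounts.divisors_prime Nat.prime_two, Finset.sum_pair (by norm_num)] at h2
  have h1 := cnt_one (G := G)
  simp only [cnt] at h1 ⊢
  omega

/-- The true counts are among the solutions. -/
theorem exists_solution (Q : Problem) (hQ : Q.valid = true)
    (hsort : ([1, 2] ++ Q.D).Pairwise (· < ·)) (h3 : ∀ m ∈ Q.D, 3 ≤ m)
    (himg : (fun m : ℕ => Nat.card {g : G // orderOf g = m}) '' Set.range (orderOf : G → ℕ) =
      {v | v ∈ Q.vals}) :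
    truth G ([1, 2] ++ Q.D) ∈ Q.solutions ∧
      ∀ k, cnt G k ≠ 0 → k ∈ [1, 2] ++ Q.D := by
  classical
  simp only [Problem.valid, Bool.and_eq_true, List.all_eq_true, Bool.or_eq_true, beq_iff_eq,
    bne_iff_ne, List.contains_eq_mem, decide_eq_true_eq] at hQ
  obtain ⟨⟨⟨⟨⟨⟨hvals, hinv⟩, hinv1⟩, hinvmem⟩, hcaps⟩, hne⟩, hord⟩ := hQ
  simp only [capsOK, Bool.and_eq_true, List.all_eq_true, Bool.or_eq_true, List.any_eq_true,
    beq_iff_eq, bne_iff_ne, decide_eq_true_eq, List.mem_range] at hcaps
  obtain ⟨⟨hprimes, hexp⟩, hlt⟩ := hcaps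
  have hmem : ∀ m, cnt G m ≠ 0 → cnt G m ∈ Q.vals := fun m hm => by
    obtain ⟨x, hx⟩ := exists_of_cnt hm
    have : cnt G m ∈ {v | v ∈ Q.vals} := himg ▸ ⟨m, ⟨x, hx⟩, rfl⟩
    exact this
  have hattain : ∀ v ∈ Q.vals, ∃ m, cnt G m = v ∧ cnt G m ≠ 0 := by
    intro v hv
    obtain ⟨m, ⟨x, hx⟩, hm⟩ : v ∈ (fun m : ℕ => Nat.card {g : G // orderOf g = m}) ''
        Set.range (orderOf : G → ℕ) := himg.symm ▸ (hv : v ∈ {v | v ∈ Q.vals})
    exact ⟨m, hm, (hx ▸ cnt_pos x).ne'⟩
  have hev : ∀ m, 3 ≤ m → cnt G m ≠ 0 → cnt G m ∈ Q.ev := by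
    intro m hm hne
    have heven : 2 ∣ cnt G m := (Nat.totient_even hm).two_dvd.trans (totient_dvd_cnt m)
    rcases hvals _ (hmem m hne) with (h | h) | h
    · exact h.2
    · omega
    · omega
  have h2 : cnt G 2 = Q.inv := by
    obtain ⟨m, hm, hne⟩ := hattain _ hinvmem
    obtain rfl : m = 2 := by
      rcases Nat.lt_or_ge m 3 with h | h
      · interval_cases m
        · obtain ⟨x, hx⟩ := exists_of_cnt hne
          exact absurd hx (orderOf_pos x).ne'
        · rw [cnt_one] at hm; exact absurd hm.symm hinv1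
        · rfl
      · have := (Nat.totient_even h).two_dvd.trans (totient_dvd_cnt (G := G) m)
        omega
    exact hm
  -- every order divides the largest exponent
  have hdvdE : ∀ k, cnt G k ≠ 0 → k ∣ Q.a * Q.b * Q.c * Q.d := by
    intro k hk
    rw [Nat.dvd_iff_prime_pow_dvd_dvd]
    intro p n hp hpn
    rcases Nat.eq_zero_or_pos n with rfl | hn
    · simp
    have hpk : cnt G p ≠ 0 := cnt_ne_zero_of_dvd hk ((dvd_pow_self p hn.ne').trans hpn)
    have hpG := dvd_card_of_cnt hpk
    have hmod : cnt G p % p = p - 1 := by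
      have h := CfsgLib.Orders.dvd_card_pow_eq_one p hpG
      rw [CfsgLib.Orders.TwoCounts.card_pow_eq_one_eq_sum hp.ne_zero, CfsgLib.Orders.TwoCounts.divisors_prime hp,
        Finset.sum_pair hp.ne_one.symm] at h
      have h1 := cnt_one (G := G)
      simp only [cnt] at h1 ⊢
      rw [h1] at h
      obtain ⟨j, hj⟩ := h
      have hp2 := hp.two_le
      rcases j with _ | j
      · omega
      · rw [mul_add, mul_one] at hj
        rw [show Nat.card {g : G // orderOf g = p} = (p - 1) + p * j by omega, Nat.add_mul_mod_self_left,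
          Nat.mod_eq_of_lt (by omega)]
    have hp146 : p < 146 := by
      have := hlt _ (hmem p hpk)
      have := Nat.mod_le (cnt G p) p
      omega
    rcases hprimes p hp146 with ((h | ⟨q, hq, rfl⟩) | ⟨i, hi, hi1, hi2⟩) | h
    · have := hp.two_le
      omega
    · obtain ⟨⟨hq1, hE⟩, hq2⟩ := hexp q hq
      rcases Nat.lt_or_ge q.2 n with hlt' | hge
      · exfalso
        have hpe : cnt G (q.1 ^ (q.2 + 1)) ≠ 0 :=
          cnt_ne_zero_of_dvd hk ((pow_dvd_pow _ hlt').trans hpn)
        have htot := totient_dvd_cnt (G := G) (q.1 ^ (q.2 + 1))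
        rw [Nat.totient_prime_pow_succ hp] at htot
        refine hq2 _ (hev _ ?_ hpe) (Nat.mod_eq_zero_of_dvd htot)
        have h4 : q.1 ^ 2 ≤ q.1 ^ (q.2 + 1) := Nat.pow_le_pow_right hp.pos (by omega)
        have := hp.two_le
        nlinarith
      · exact (pow_dvd_pow _ hge).trans (Nat.dvd_of_mod_eq_zero hE)
    · rcases (Nat.dvd_prime hp).1 (Nat.dvd_of_mod_eq_zero hi2) with e | e
      · omega
      · exact absurd e hi.ne
    · rcases h _ (hmem p hpk) with h' | ⟨-, h'⟩
      · exact absurd hmod h'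
      · refine absurd (Nat.mod_eq_zero_of_dvd ?_) h'
        have := totient_dvd_cnt (G := G) p
        rwa [Nat.totient_prime hp] at this
  have hT : ∀ k, cnt G k ≠ 0 → k ∈ [1, 2] ++ Q.D := by
    intro k hk
    obtain ⟨x, w, hx, hw, rfl⟩ := Nat.dvd_mul.1 (hdvdE k hk)
    obtain ⟨y, z, hy, hz, rfl⟩ := Nat.dvd_mul.1 hx
    obtain ⟨u, v, hu, hv, rfl⟩ := Nat.dvd_mul.1 hy
    have hpos : ∀ {n N : ℕ}, n ∣ N → N ≠ 0 → n < N + 1 := fun h h0 =>
      Nat.lt_succ_of_le (Nat.le_of_dvd (Nat.pos_of_ne_zero h0) h)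
    simp only [ordersOK, List.all_eq_true, List.mem_range, Bool.or_eq_true, bne_iff_ne,
      List.contains_eq_mem, decide_eq_true_eq] at hord
    have hne' := hne
    simp only [ne_eq, mul_eq_zero, not_or] at hne'
    obtain ⟨⟨⟨ha, hb⟩, hc⟩, hd⟩ := hne'
    rcases hord u (hpos hu ha) with h | h
    · exact absurd (Nat.mod_eq_zero_of_dvd hu) h
    rcases h v (hpos hv hb) with h | h
    · exact absurd (Nat.mod_eq_zero_of_dvd hv) h
    rcases h z (hpos hz hc) with h | h
    · exact absurd (Nat.mod_eq_zero_of_dvd hz) h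
    rcases h w (hpos hw hd) with (h | h) | h
    · exact absurd (Nat.mod_eq_zero_of_dvd hw) h
    · have h0 : u * v * z * w ≠ 0 := fun e => by
        obtain ⟨x, hx⟩ := exists_of_cnt hk
        exact (orderOf_pos x).ne' (hx.trans e)
      refine List.mem_append_left _ ?_
      generalize u * v * z * w = k at h h0
      interval_cases k <;> simp_all
    · exact List.mem_append_right _ h
  refine ⟨?_, hT⟩
  rw [Problem.solutions, List.mem_filter]
  constructor
  · refine mem_search hev hT hsort Q.D [1, 2] _ rfl h3 (List.mem_singleton.2 ?_)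
    have h20 : cnt G 2 ≠ 0 := by omega
    simp [truth, h2, cnt_one]
    omega
  · simp only [finalOK, Bool.and_eq_true, List.all_eq_true, List.any_eq_true, beq_iff_eq,
      List.mem_range, Bool.or_eq_true, bne_iff_ne]
    refine ⟨fun v hv => ?_, fun d hd => ?_⟩
    · obtain ⟨m, hm, hne⟩ := hattain v hv
      exact ⟨(m, cnt G m), mem_truth.2 ⟨hT m hne, hne, rfl⟩, hm⟩
    · have hnd : ([1, 2] ++ Q.D).Nodup := hsort.imp fun h => h.ne
      have hsum : ((truth G ([1, 2] ++ Q.D)).map Prod.snd).sum = Nat.card G := by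
        have h := psum_truth (G := G) hnd (d := Nat.card G) Nat.card_pos.ne' fun k _ hk => hT k hk
        rw [Nat.card_congr (Equiv.subtypeUnivEquiv fun x : G => pow_card_eq_one')] at h
        rw [← h, psum, List.filter_eq_self.2]
        intro q hq
        simp only [beq_iff_eq]
        exact Nat.mod_eq_zero_of_dvd (dvd_card_of_cnt (mem_truth.1 hq).2.1)
      rw [hsum] at hd ⊢
      by_cases h : Nat.card G % d = 0
      · right
        have hd0 : d ≠ 0 := fun e => by
          rw [e, Nat.mod_zero] at h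
          exact Nat.card_pos.ne' h
        rw [psum_truth hnd hd0 fun k _ hk => hT k hk]
        exact Nat.mod_eq_zero_of_dvd
          (CfsgLib.Orders.dvd_card_pow_eq_one d (Nat.dvd_of_mod_eq_zero h))
      · exact Or.inl h

end CfsgLib.Orders.SameOrder
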